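import Mathlib
import Cfsg.Prelude.Def_Characters
import Cfsg.Agent.Characters.Core
import Cfsg.Agent.PermChar.SymAlt
import Cfsg.Agent.S0157
set_option linter.all false

/-!
# Three small irreducible characters of a 4-transitive group

For a `4`-transitive group `G` on `Ω`, with `f` the number of fixed points and `u` the number of
points moved by `g` and fixed by `g²`: `f - 1`, `(f² - 3 f + u) / 2`, `(f² - 3 f + 2 - u) / 2`
are irreducible characters (`(n-1,1)`, `(n-2,2)`, `(n-2,1,1)` for the symmetric group).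
-/

set_option autoImplicit false

namespace Cfsg.Agent.H621.AltChar

open MulAction Cfsg Cfsg.Agent.Characters.Core
open scoped ComplexConjugate

/-- Twisted Burnside counting for a transitive action. -/
theorem sum_card_eq {G X : Type*} [Group G] [Fintype G] [MulAction G X] [Finite X] [Nonempty X]
    [IsPretransitive G X] (t : X → X) :
    ∑ g : G, Nat.card {x : X // g • x = t x} = Nat.card G := by
  classical
  have := Fintype.ofFinite X
  have h1 : ∀ g : G, Nat.card {x : X // g • x = t x} = ∑ x : X, if g • x = t x then 1 else 0 := by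
    intro g
    rw [Nat.card_eq_fintype_card, Fintype.card_subtype, Finset.card_filter]
  simp_rw [h1]
  rw [Finset.sum_comm]
  have h2 : ∀ x : X, (∑ g : G, if g • x = t x then 1 else 0) * Fintype.card X = Nat.card G := by
    intro x
    obtain ⟨g₀, hg₀⟩ := exists_smul_eq G x (t x)
    have h3 : (∑ g : G, if g • x = t x then 1 else 0) = Nat.card (stabilizer G x) := by
      rw [← Finset.card_filter, ← Fintype.card_subtype, Nat.card_eq_fintype_card]
      apply Fintype.card_congr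
      refine ⟨fun g => ⟨g₀⁻¹ * g, ?_⟩, fun h => ⟨g₀ * h, ?_⟩, fun g => ?_, fun h => ?_⟩
      · rw [mem_stabilizer_iff, mul_smul, g.2, ← hg₀, inv_smul_smul]
      · have := h.2
        rw [mem_stabilizer_iff] at this
        rw [mul_smul, this, hg₀]
      · simp
      · simp
    rw [h3, mul_comm]
    have h4 := card_orbit_mul_card_stabilizer_eq_card_group G x
    have h5 : Fintype.card (orbit G x) = Fintype.card X := by
      have : orbit G x = Set.univ := orbit_eq_univ G x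
      rw [← Nat.card_eq_fintype_card, this, Nat.card_univ, Nat.card_eq_fintype_card]
    rw [h5] at h4
    rw [Nat.card_eq_fintype_card, Nat.card_eq_fintype_card, h4]
  have hX : 0 < Fintype.card X := Fintype.card_pos
  obtain ⟨x₀⟩ := (inferInstance : Nonempty X)
  have h6 : ∀ x : X, (∑ g : G, if g • x = t x then 1 else 0) =
      (∑ g : G, if g • x₀ = t x₀ then 1 else 0) := by
    intro x
    exact Nat.eq_of_mul_eq_mul_right hX ((h2 x).trans (h2 x₀).symm)
  rw [Finset.sum_congr rfl (fun x _ => h6 x), Finset.sum_const, Finset.card_univ, smul_eq_mul,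
    mul_comm]
  exact h2 x₀

variable {G Ω : Type*} [Group G] [MulAction G Ω] [Finite Ω]

/-- points moved by `g`, fixed by `g²` -/
abbrev UU (Ω : Type*) [MulAction G Ω] (g : G) : Type _ := {a : Ω // g • a ≠ a ∧ g • g • a = a}

/-- fixed points as a type -/
abbrev FF (Ω : Type*) [MulAction G Ω] (g : G) : Type _ := {a : Ω // g • a = a}

/-- number of fixed points -/
noncomputable def nf (Ω : Type*) [MulAction G Ω] (g : G) : ℕ := Nat.card (FF Ω g)

/-- number of points in `2`-cycles -/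
noncomputable def nu (Ω : Type*) [MulAction G Ω] (g : G) : ℕ := Nat.card (UU Ω g)

omit [Finite Ω] in
theorem nf_eq (g : G) : nf Ω g = Nat.card (fixedBy Ω g) := rfl

theorem nf_mul_self (g : G) : nf Ω (g * g) = nf Ω g + nu Ω g := by
  classical
  have := Fintype.ofFinite Ω
  unfold nf nu
  rw [Nat.card_eq_fintype_card, Nat.card_eq_fintype_card, Nat.card_eq_fintype_card,
    Fintype.card_subtype, Fintype.card_subtype, Fintype.card_subtype, ← Finset.card_union_of_disjoint]
  · congr 1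
    ext a
    simp only [Finset.mem_filter, Finset.mem_univ, true_and, Finset.mem_union, mul_smul]
    constructor
    · intro h
      by_cases h1 : g • a = a
      · exact Or.inl h1
      · exact Or.inr ⟨h1, h⟩
    · rintro (h | h)
      · rw [h, h]
      · exact h.2
  · rw [Finset.disjoint_left]
    intro a ha hb
    simp only [Finset.mem_filter, Finset.mem_univ, true_and] at ha hb
    exact hb.1 ha

/-- fixed embeddings -/
def embEquiv (k : ℕ) (g : G) : {x : Fin k ↪ Ω // g • x = x} ≃ (Fin k ↪ FF Ω g) where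
  toFun x := ⟨fun i => ⟨x.1 i, by
    have := congrArg (fun y : Fin k ↪ Ω => y i) x.2
    exact this⟩, fun i j h => x.1.injective (congrArg Subtype.val h)⟩
  invFun y := ⟨⟨fun i => (y i : Ω), fun i j h => y.injective (Subtype.ext h)⟩, by
    ext i
    exact (y i).2⟩
  left_inv _ := rfl
  right_inv _ := rfl

theorem card_emb (k : ℕ) (g : G) :
    Nat.card {x : Fin k ↪ Ω // g • x = x} = (nf Ω g).descFactorial k := by
  classical
  have := Fintype.ofFinite Ω
  rw [Nat.card_congr (embEquiv k g), Nat.card_eq_fintype_card, Fintype.card_embedding_eq,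
    Fintype.card_fin, nf, Nat.card_eq_fintype_card]

/-- reindexing of an embedding -/
def tw {k : ℕ} (σ : Equiv.Perm (Fin k)) (x : Fin k ↪ Ω) : Fin k ↪ Ω := σ.toEmbedding.trans x

omit [Finite Ω] in
theorem tw_eq_iff {k : ℕ} (σ : Equiv.Perm (Fin k)) (g : G) (x : Fin k ↪ Ω) :
    g • x = tw σ x ↔ ∀ i, g • x i = x (σ i) := by
  constructor
  · intro h i
    exact congrArg (fun y : Fin k ↪ Ω => y i) h
  · intro h
    ext i
    exact h i

theorem inj2 {Ω : Type*} {a b : Ω} (h : a ≠ b) : Function.Injective ![a, b] := by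
  intro i j hij
  fin_cases i <;> fin_cases j <;>
    first | rfl | exact absurd hij h | exact absurd hij.symm h

theorem inj3 {Ω : Type*} {a b c : Ω} (h01 : a ≠ b) (h02 : a ≠ c) (h12 : b ≠ c) :
    Function.Injective ![a, b, c] := by
  intro i j hij
  fin_cases i <;> fin_cases j <;>
    first | rfl | exact absurd hij h01 | exact absurd hij.symm h01 | exact absurd hij h02 |
      exact absurd hij.symm h02 | exact absurd hij h12 | exact absurd hij.symm h12

theorem inj4 {Ω : Type*} {a b c d : Ω} (h01 : a ≠ b) (h02 : a ≠ c) (h03 : a ≠ d) (h12 : b ≠ c)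
    (h13 : b ≠ d) (h23 : c ≠ d) :
    Function.Injective ![a, b, c, d] := by
  intro i j hij
  fin_cases i <;> fin_cases j <;>
    first | rfl | exact absurd hij h01 | exact absurd hij.symm h01 | exact absurd hij h02 |
      exact absurd hij.symm h02 | exact absurd hij h12 | exact absurd hij.symm h12 |
      exact absurd hij h03 | exact absurd hij.symm h03 | exact absurd hij h13 |
      exact absurd hij.symm h13 | exact absurd hij h23 | exact absurd hij.symm h23

omit [Finite Ω] in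
theorem ff_ne_uu {g : G} (a : FF Ω g) (b : UU Ω g) : (a : Ω) ≠ b := by
  intro h
  apply b.2.1
  rw [← h]
  exact a.2

omit [Finite Ω] in
theorem smul_ff_ne_uu {g : G} (a : FF Ω g) (b : UU Ω g) : (a : Ω) ≠ g • (b : Ω) := by
  intro h
  apply b.2.1
  have : g • (a : Ω) = g • g • (b : Ω) := by rw [h]
  rw [a.2, b.2.2] at this
  rw [← this]
  exact a.2

/-- partner -/
def par {g : G} (b : UU Ω g) : UU Ω g := ⟨g • (b : Ω), by
  refine ⟨fun h => b.2.1 ?_, ?_⟩
  · rw [b.2.2] at h; exact h.symm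
  · rw [b.2.2]⟩

omit [Finite Ω] in
theorem par_ne {g : G} (b : UU Ω g) : par b ≠ b := fun h => b.2.1 (congrArg Subtype.val h)

theorem even_nu (g : G) : Even (nu Ω g) := by
  classical
  have := Fintype.ofFinite Ω
  have h2 : Fact (Nat.Prime 2) := ⟨Nat.prime_two⟩
  let F : Function.End (UU Ω g) := par
  have hF : F ^ 2 ^ 1 = 1 := by
    funext b
    rw [pow_one, pow_two]
    exact Subtype.ext b.2.2
  have h := Equiv.Perm.card_fixedPoints_modEq (p := 2) (n := 1) hF
  have h0 : IsEmpty (Function.fixedPoints F) := ⟨fun b => par_ne b.1 b.2⟩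
  rw [Fintype.card_eq_zero (α := Function.fixedPoints F)] at h
  unfold nu
  rw [Nat.card_eq_fintype_card, even_iff_two_dvd]
  exact (Nat.modEq_zero_iff_dvd).1 h

/-- pairs of points in 2-cycles -/
def equiv2 (g : G) : {x : Fin 2 ↪ Ω // g • x = tw (Equiv.swap 0 1) x} ≃ UU Ω g where
  toFun x := ⟨x.1 0, by
    have h := (tw_eq_iff _ _ _).1 x.2
    have h0 : g • x.1 0 = x.1 1 := h 0
    have h1 : g • x.1 1 = x.1 0 := h 1
    refine ⟨?_, ?_⟩
    · rw [h0]; exact fun h => absurd (x.1.injective h) (by decide)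
    · rw [h0, h1]⟩
  invFun b := ⟨⟨![(b : Ω), g • (b : Ω)], inj2 (fun h => b.2.1 h.symm)⟩, by
    rw [tw_eq_iff]
    intro i
    fin_cases i
    · rfl
    · exact b.2.2⟩
  left_inv x := by
    have h := (tw_eq_iff _ _ _).1 x.2
    apply Subtype.ext
    ext i
    fin_cases i
    · rfl
    · exact h 0
  right_inv b := rfl

/-- triples -/
def equiv3 (g : G) : {x : Fin 3 ↪ Ω // g • x = tw (Equiv.swap 1 2) x} ≃ FF Ω g × UU Ω g where
  toFun x := (⟨x.1 0, (tw_eq_iff _ _ _).1 x.2 0⟩, ⟨x.1 1, by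
    have h := (tw_eq_iff _ _ _).1 x.2
    have h0 : g • x.1 1 = x.1 2 := h 1
    have h1 : g • x.1 2 = x.1 1 := h 2
    refine ⟨?_, ?_⟩
    · rw [h0]; exact fun h => absurd (x.1.injective h) (by decide)
    · rw [h0, h1]⟩)
  invFun p := ⟨⟨![(p.1 : Ω), (p.2 : Ω), g • (p.2 : Ω)], inj3 (ff_ne_uu _ _) (smul_ff_ne_uu _ _)
      (fun h => p.2.2.1 h.symm)⟩, by
    rw [tw_eq_iff]
    intro i
    fin_cases i
    · exact p.1.2
    · rfl
    · exact p.2.2.2⟩
  left_inv x := by
    have h := (tw_eq_iff _ _ _).1 x.2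
    apply Subtype.ext
    ext i
    fin_cases i
    · rfl
    · rfl
    · exact h 1
  right_inv b := rfl

/-- quadruples, one 2-cycle -/
def equiv4 (g : G) : {x : Fin 4 ↪ Ω // g • x = tw (Equiv.swap 2 3) x} ≃
    {p : FF Ω g × FF Ω g // p.2 ≠ p.1} × UU Ω g where
  toFun x := (⟨(⟨x.1 0, (tw_eq_iff _ _ _).1 x.2 0⟩, ⟨x.1 1, (tw_eq_iff _ _ _).1 x.2 1⟩),
      fun h => absurd (x.1.injective (congrArg Subtype.val h)) (by decide)⟩, ⟨x.1 2, by
    have h := (tw_eq_iff _ _ _).1 x.2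
    have h0 : g • x.1 2 = x.1 3 := h 2
    have h1 : g • x.1 3 = x.1 2 := h 3
    refine ⟨?_, ?_⟩
    · rw [h0]; exact fun h => absurd (x.1.injective h) (by decide)
    · rw [h0, h1]⟩)
  invFun p := ⟨⟨![(p.1.1.1 : Ω), (p.1.1.2 : Ω), (p.2 : Ω), g • (p.2 : Ω)],
      inj4 (fun h => p.1.2 (Subtype.ext h).symm) (ff_ne_uu _ _) (smul_ff_ne_uu _ _)
      (ff_ne_uu _ _) (smul_ff_ne_uu _ _) (fun h => p.2.2.1 h.symm)⟩, by
    rw [tw_eq_iff]
    intro i
    fin_cases i
    · exact p.1.1.1.2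
    · exact p.1.1.2.2
    · rfl
    · exact p.2.2.2⟩
  left_inv x := by
    have h := (tw_eq_iff _ _ _).1 x.2
    apply Subtype.ext
    ext i
    fin_cases i
    · rfl
    · rfl
    · rfl
    · exact h 2
  right_inv b := rfl

/-- quadruples, two 2-cycles -/
def equiv22 (g : G) : {x : Fin 4 ↪ Ω // g • x = tw (Equiv.swap 0 1 * Equiv.swap 2 3) x} ≃
    {p : UU Ω g × UU Ω g // p.2 ≠ p.1 ∧ p.2 ≠ par p.1} where
  toFun x := ⟨(⟨x.1 0, by
    have h := (tw_eq_iff _ _ _).1 x.2
    have h0 : g • x.1 0 = x.1 1 := h 0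
    have h1 : g • x.1 1 = x.1 0 := h 1
    refine ⟨?_, ?_⟩
    · rw [h0]; exact fun h => absurd (x.1.injective h) (by decide)
    · rw [h0, h1]⟩, ⟨x.1 2, by
    have h := (tw_eq_iff _ _ _).1 x.2
    have h0 : g • x.1 2 = x.1 3 := h 2
    have h1 : g • x.1 3 = x.1 2 := h 3
    refine ⟨?_, ?_⟩
    · rw [h0]; exact fun h => absurd (x.1.injective h) (by decide)
    · rw [h0, h1]⟩), by
    refine ⟨fun h => absurd (x.1.injective (congrArg Subtype.val h)) (by decide), fun h => ?_⟩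
    have h0 : g • x.1 0 = x.1 1 := (tw_eq_iff _ _ _).1 x.2 0
    have h2 : x.1 2 = g • x.1 0 := congrArg Subtype.val h
    rw [h0] at h2
    exact absurd (x.1.injective h2) (by decide)⟩
  invFun p := ⟨⟨![(p.1.1 : Ω), g • (p.1.1 : Ω), (p.1.2 : Ω), g • (p.1.2 : Ω)],
      inj4 (fun h => p.1.1.2.1 h.symm) (fun h => p.2.1 (Subtype.ext h).symm)
      (fun h => p.2.2 (by
        apply Subtype.ext
        change (p.1.2 : Ω) = g • (p.1.1 : Ω)
        rw [h, p.1.2.2.2]))
      (fun h => p.2.2 (Subtype.ext h.symm))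
      (fun h => p.2.1 (by
        apply Subtype.ext
        exact (smul_left_cancel g h).symm)) (fun h => p.1.2.2.1 h.symm)⟩, by
    rw [tw_eq_iff]
    intro i
    fin_cases i
    · rfl
    · exact p.1.1.2.2
    · rfl
    · exact p.1.2.2.2⟩
  left_inv x := by
    have h := (tw_eq_iff _ _ _).1 x.2
    apply Subtype.ext
    ext i
    fin_cases i
    · rfl
    · exact h 0
    · rfl
    · exact h 2
  right_inv b := rfl

theorem card_pairs_ne {X : Type*} [Finite X] :
    (Nat.card {p : X × X // p.2 ≠ p.1} : ℤ) = Nat.card X * (Nat.card X - 1) := by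
  classical
  have := Fintype.ofFinite X
  rw [Nat.card_eq_fintype_card, Nat.card_eq_fintype_card, Fintype.card_subtype,
    Finset.card_filter, Fintype.sum_prod_type]
  have : ∀ x : X, (∑ y : X, if y ≠ x then 1 else 0) = Fintype.card X - 1 := by
    intro x
    rw [← Finset.card_filter, Finset.filter_ne', Finset.card_erase_of_mem (Finset.mem_univ x)]
    rfl
  rw [Finset.sum_congr rfl (fun x _ => this x), Finset.sum_const, Finset.card_univ, smul_eq_mul]
  rcases Nat.eq_zero_or_pos (Fintype.card X) with h | h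
  · rw [h]; simp
  · push_cast [Nat.cast_sub h]
    ring

theorem card_pairs_ne_ne {X : Type*} [Finite X] (f : X → X) (hf : ∀ x, f x ≠ x) :
    (Nat.card {p : X × X // p.2 ≠ p.1 ∧ p.2 ≠ f p.1} : ℤ) = Nat.card X * (Nat.card X - 2) := by
  classical
  have := Fintype.ofFinite X
  rw [Nat.card_eq_fintype_card, Nat.card_eq_fintype_card, Fintype.card_subtype,
    Finset.card_filter, Fintype.sum_prod_type]
  have h2 : ∀ x : X, 2 ≤ Fintype.card X := by
    intro x
    have : ({f x, x} : Finset X).card = 2 := Finset.card_pair (hf x)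
    rw [← this]
    exact Finset.card_le_univ _
  have : ∀ x : X, (∑ y : X, if (y ≠ x ∧ y ≠ f x) then 1 else 0) = Fintype.card X - 2 := by
    intro x
    rw [← Finset.card_filter]
    have h3 : Finset.univ.filter (fun y => y ≠ x ∧ y ≠ f x) = ({f x, x} : Finset X)ᶜ := by
      ext y
      simp only [Finset.mem_filter, Finset.mem_univ, true_and, Finset.mem_compl,
        Finset.mem_insert, Finset.mem_singleton, not_or]
      exact and_comm
    rw [h3, Finset.card_compl, Finset.card_pair (hf x)]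
  rw [Finset.sum_congr rfl (fun x _ => this x), Finset.sum_const, Finset.card_univ, smul_eq_mul]
  rcases isEmpty_or_nonempty X with h | ⟨⟨x⟩⟩
  · simp
  · push_cast [Nat.cast_sub (h2 x)]
    ring

section moments

variable [Fintype G] (G Ω)

theorem exists_emb {k : ℕ} (hk : k ≤ Nat.card Ω) : Nonempty (Fin k ↪ Ω) := by
  have := Fintype.ofFinite Ω
  apply Function.Embedding.nonempty_of_card_le
  rwa [Fintype.card_fin, ← Nat.card_eq_fintype_card]

theorem moment_desc {k : ℕ} (hk : k ≤ Nat.card Ω) (h : IsMultiplyPretransitive G Ω k) :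
    ∑ g : G, (nf Ω g).descFactorial k = Nat.card G := by
  have := exists_emb Ω hk
  have h1 : IsPretransitive G (Fin k ↪ Ω) := h
  rw [← sum_card_eq (G := G) (X := Fin k ↪ Ω) id]
  exact Finset.sum_congr rfl (fun g _ => (card_emb k g).symm)

theorem moment_u (hk : 2 ≤ Nat.card Ω) (h : IsMultiplyPretransitive G Ω 2) :
    ∑ g : G, (nu Ω g : ℤ) = Nat.card G := by
  have := exists_emb Ω hk
  have h1 : IsPretransitive G (Fin 2 ↪ Ω) := h
  rw [← sum_card_eq (G := G) (X := Fin 2 ↪ Ω) (tw (Equiv.swap 0 1))]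
  push_cast
  refine Finset.sum_congr rfl (fun g _ => ?_)
  rw [Nat.card_congr (equiv2 g)]
  rfl

theorem moment_fu (hk : 3 ≤ Nat.card Ω) (h : IsMultiplyPretransitive G Ω 3) :
    ∑ g : G, (nf Ω g : ℤ) * nu Ω g = Nat.card G := by
  have := exists_emb Ω hk
  have h1 : IsPretransitive G (Fin 3 ↪ Ω) := h
  rw [← sum_card_eq (G := G) (X := Fin 3 ↪ Ω) (tw (Equiv.swap 1 2))]
  push_cast
  refine Finset.sum_congr rfl (fun g _ => ?_)
  rw [Nat.card_congr (equiv3 g), Nat.card_prod]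
  push_cast
  rfl

theorem moment_ffu (hk : 4 ≤ Nat.card Ω) (h : IsMultiplyPretransitive G Ω 4) :
    ∑ g : G, (nf Ω g : ℤ) * (nf Ω g - 1) * nu Ω g = Nat.card G := by
  have := exists_emb Ω hk
  have h1 : IsPretransitive G (Fin 4 ↪ Ω) := h
  rw [← sum_card_eq (G := G) (X := Fin 4 ↪ Ω) (tw (Equiv.swap 2 3))]
  push_cast
  refine Finset.sum_congr rfl (fun g _ => ?_)
  rw [Nat.card_congr (equiv4 g), Nat.card_prod]
  push_cast
  rw [card_pairs_ne]
  rfl

theorem moment_uu (hk : 4 ≤ Nat.card Ω) (h : IsMultiplyPretransitive G Ω 4) :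
    ∑ g : G, (nu Ω g : ℤ) * (nu Ω g - 2) = Nat.card G := by
  have := exists_emb Ω hk
  have h1 : IsPretransitive G (Fin 4 ↪ Ω) := h
  rw [← sum_card_eq (G := G) (X := Fin 4 ↪ Ω) (tw (Equiv.swap 0 1 * Equiv.swap 2 3))]
  push_cast
  refine Finset.sum_congr rfl (fun g _ => ?_)
  rw [Nat.card_congr (equiv22 g), card_pairs_ne_ne par par_ne]
  rfl

end moments

section chars

variable [Fintype G] (G Ω)

omit G Ω [Fintype G] [Group G] [MulAction G Ω] [Finite Ω] in
theorem cast_desc_succ (n k : ℕ) :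
    ((n.descFactorial (k + 1) : ℕ) : ℤ) = (n - k) * (n.descFactorial k : ℕ) := by
  rw [Nat.descFactorial_succ]
  rcases le_or_gt k n with h | h
  · push_cast [Nat.cast_sub h]
    ring
  · rw [Nat.descFactorial_eq_zero_iff_lt.2 h]
    simp

/-- all moments that we need -/
theorem moments (hk : 4 ≤ Nat.card Ω) (h : IsMultiplyPretransitive G Ω 4) :
    (∑ g : G, (nf Ω g : ℤ) = Nat.card G) ∧
    (∑ g : G, (nf Ω g : ℤ) * (nf Ω g - 1) = Nat.card G) ∧
    (∑ g : G, (nf Ω g : ℤ) * (nf Ω g - 1) * (nf Ω g - 2) * (nf Ω g - 3) = Nat.card G) ∧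
    (∑ g : G, (nu Ω g : ℤ) = Nat.card G) ∧
    (∑ g : G, (nf Ω g : ℤ) * nu Ω g = Nat.card G) ∧
    (∑ g : G, (nf Ω g : ℤ) * (nf Ω g - 1) * nu Ω g = Nat.card G) ∧
    (∑ g : G, (nu Ω g : ℤ) * (nu Ω g - 2) = Nat.card G) := by
  have h3 : IsMultiplyPretransitive G Ω 3 := isMultiplyPretransitive_of_le' (n := 4) (by norm_num)
    (by rw [ENat.card_eq_coe_natCard]; exact_mod_cast hk)
  have h2 : IsMultiplyPretransitive G Ω 2 := isMultiplyPretransitive_of_le' (n := 4) (by norm_num)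
    (by rw [ENat.card_eq_coe_natCard]; exact_mod_cast hk)
  have h1 : IsMultiplyPretransitive G Ω 1 := isMultiplyPretransitive_of_le' (n := 4) (by norm_num)
    (by rw [ENat.card_eq_coe_natCard]; exact_mod_cast hk)
  have m1 := moment_desc G Ω (by omega) h1
  have m2 := moment_desc G Ω (by omega) h2
  have m4 := moment_desc G Ω hk h
  have d1 : ∀ n : ℕ, ((n.descFactorial 1 : ℕ) : ℤ) = n := by intro n; simp
  have d2 : ∀ n : ℕ, ((n.descFactorial 2 : ℕ) : ℤ) = n * (n - 1) := by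
    intro n; rw [cast_desc_succ, d1]; push_cast; ring
  have d3 : ∀ n : ℕ, ((n.descFactorial 3 : ℕ) : ℤ) = n * (n - 1) * (n - 2) := by
    intro n; rw [cast_desc_succ, d2]; push_cast; ring
  have d4 : ∀ n : ℕ, ((n.descFactorial 4 : ℕ) : ℤ) = n * (n - 1) * (n - 2) * (n - 3) := by
    intro n; rw [cast_desc_succ, d3]; push_cast; ring
  refine ⟨?_, ?_, ?_, moment_u G Ω (by omega) h2, moment_fu G Ω (by omega) h3,
    moment_ffu G Ω hk h, moment_uu G Ω hk h⟩
  · rw [← m1]; push_cast; exact Finset.sum_congr rfl fun g _ => (d1 _).symm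
  · rw [← m2]; push_cast; exact Finset.sum_congr rfl fun g _ => (d2 _).symm
  · rw [← m4]; push_cast; exact Finset.sum_congr rfl fun g _ => (d4 _).symm

theorem sq_one (hk : 4 ≤ Nat.card Ω) (h : IsMultiplyPretransitive G Ω 4) :
    ∑ g : G, ((nf Ω g : ℤ) - 1) ^ 2 = (Nat.card G : ℤ) := by
  obtain ⟨m1, m2, -⟩ := moments G Ω hk h
  have hc : ∑ g : G, (1 : ℤ) = Nat.card G := by simp
  have : ∀ g : G, ((nf Ω g : ℤ) - 1) ^ 2 =
      (nf Ω g : ℤ) * (nf Ω g - 1) - nf Ω g + 1 := by intro g; ring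
  simp_rw [this]
  rw [Finset.sum_add_distrib, Finset.sum_sub_distrib, m1, m2, hc]
  ring

theorem sq_a (hk : 4 ≤ Nat.card Ω) (h : IsMultiplyPretransitive G Ω 4) :
    ∑ g : G, ((nf Ω g : ℤ) ^ 2 - 3 * nf Ω g + nu Ω g) ^ 2 = (4 * Nat.card G : ℤ) := by
  obtain ⟨m1, m2, m4, m5, m6, m7, m8⟩ := moments G Ω hk h
  have : ∀ g : G, ((nf Ω g : ℤ) ^ 2 - 3 * nf Ω g + nu Ω g) ^ 2 =
      (nf Ω g : ℤ) * (nf Ω g - 1) * (nf Ω g - 2) * (nf Ω g - 3)
      - 2 * ((nf Ω g : ℤ) * (nf Ω g - 1)) + 4 * nf Ω g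
      + 2 * ((nf Ω g : ℤ) * (nf Ω g - 1) * nu Ω g) - 4 * ((nf Ω g : ℤ) * nu Ω g)
      + (nu Ω g : ℤ) * (nu Ω g - 2) + 2 * nu Ω g := by intro g; ring
  simp_rw [this]
  simp only [Finset.sum_add_distrib, Finset.sum_sub_distrib, ← Finset.mul_sum]
  rw [m1, m2, m4, m5, m6, m7, m8]
  ring

theorem sq_b (hk : 4 ≤ Nat.card Ω) (h : IsMultiplyPretransitive G Ω 4) :
    ∑ g : G, ((nf Ω g : ℤ) ^ 2 - 3 * nf Ω g + 2 - nu Ω g) ^ 2 = (4 * Nat.card G : ℤ) := by
  obtain ⟨m1, m2, m4, m5, m6, m7, m8⟩ := moments G Ω hk h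
  have hc : ∑ g : G, (4 : ℤ) = 4 * Nat.card G := by simp; ring
  have : ∀ g : G, ((nf Ω g : ℤ) ^ 2 - 3 * nf Ω g + 2 - nu Ω g) ^ 2 =
      (nf Ω g : ℤ) * (nf Ω g - 1) * (nf Ω g - 2) * (nf Ω g - 3)
      + 2 * ((nf Ω g : ℤ) * (nf Ω g - 1)) - 4 * nf Ω g + 4
      - 2 * ((nf Ω g : ℤ) * (nf Ω g - 1) * nu Ω g) + 4 * ((nf Ω g : ℤ) * nu Ω g)
      - 4 * nu Ω g
      + (nu Ω g : ℤ) * (nu Ω g - 2) + 2 * nu Ω g := by intro g; ring
  simp_rw [this]
  simp only [Finset.sum_add_distrib, Finset.sum_sub_distrib, ← Finset.mul_sum]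
  rw [m1, m2, m4, m5, m6, m7, m8, hc]
  ring

omit [Fintype G] [Finite Ω] in
theorem nf_one : nf Ω (1 : G) = Nat.card Ω := by
  unfold nf
  apply Nat.card_congr
  exact Equiv.subtypeUnivEquiv (fun a => one_smul G a)

omit [Fintype G] [Finite Ω] in
theorem nu_one : nu Ω (1 : G) = 0 := by
  unfold nu
  have : IsEmpty (UU Ω (1 : G)) := ⟨fun a => a.2.1 (one_smul G _)⟩
  exact Nat.card_of_isEmpty

omit [Fintype G] in
theorem isCharacter_nf : IsCharacter G (fun g => (nf Ω g : ℂ)) :=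
  Cfsg.Agent.S0157.isCharacter_fixedBy Ω

/-- irreducibility from norm one and positive degree -/
theorem isIrr_of_int {χ : G → ℂ} (hχ : IsGeneralizedCharacter G χ) (v : G → ℤ)
    (hv : ∀ g, χ g = v g) (hsq : ∑ g, v g ^ 2 = (Nat.card G : ℤ)) (h1 : 0 < v 1) :
    IsIrrCharacter G χ := by
  have hn : classInner χ χ = 1 := by
    rw [classInner_def]
    have h2 : ∑ g, χ g * conj (χ g) = (Nat.card G : ℂ) := by
      have h3 : ((∑ g, v g ^ 2 : ℤ) : ℂ) = (Nat.card G : ℂ) := by rw [hsq]; push_cast; rfl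
      rw [← h3]
      push_cast
      refine Finset.sum_congr rfl fun g _ => ?_
      rw [hv g, map_intCast]; ring
    rw [h2]
    exact inv_mul_cancel₀ card_ne_zero_complex
  rcases isIrr_of_generalized hχ hn with h | h
  · exact h
  · exfalso
    obtain ⟨n, hn, hn1⟩ := isIrr_apply_one h
    rw [Pi.neg_apply, hv 1] at hn1
    have h3 : (-(v 1) : ℤ) = n := by exact_mod_cast hn1
    omega

theorem irr_one (hk : 4 ≤ Nat.card Ω) (h : IsMultiplyPretransitive G Ω 4) :
    IsIrrCharacter G (fun g => (nf Ω g : ℂ) - 1) := by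
  apply isIrr_of_int G (v := fun g => (nf Ω g : ℤ) - 1)
  · exact ⟨_, _, isCharacter_nf G Ω, isCharacter_one, rfl⟩
  · intro g; push_cast; rfl
  · exact sq_one G Ω hk h
  · rw [nf_one G Ω]; omega

/-- `(n-2, 2)` -/
theorem irr_a (hk : 5 ≤ Nat.card Ω) (h : IsMultiplyPretransitive G Ω 4) :
    IsIrrCharacter G (fun g => ((nf Ω g : ℂ) ^ 2 - 3 * nf Ω g + nu Ω g) / 2) := by
  have hgen : IsGeneralizedCharacter G
      (fun g => ((nf Ω g : ℂ) ^ 2 - 3 * nf Ω g + nu Ω g) / 2) := by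
    refine ⟨_, _, Cfsg.Agent.PermChar.SymAlt.isCharacter_symSq (isCharacter_nf G Ω),
      isCharacter_add (isCharacter_nf G Ω) (isCharacter_nf G Ω), ?_⟩
    funext g
    simp only [Pi.sub_apply, Pi.add_apply]
    rw [nf_mul_self]
    push_cast
    ring
  have hint : ∀ g : G, ∃ z : ℤ, (nf Ω g : ℤ) ^ 2 - 3 * nf Ω g + nu Ω g = 2 * z := by
    intro g
    obtain ⟨k, hk⟩ := even_nu (Ω := Ω) g
    obtain ⟨l, hl⟩ := Int.even_mul_succ_self (nf Ω g)
    exact ⟨l - 2 * nf Ω g + k, by rw [hk]; push_cast; linear_combination hl⟩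
  choose v hv using hint
  refine isIrr_of_int G hgen v ?_ ?_ ?_
  · intro g
    have h1 : (((nf Ω g : ℤ) ^ 2 - 3 * nf Ω g + nu Ω g : ℤ) : ℂ) = ((2 * v g : ℤ) : ℂ) := by rw [hv g]
    push_cast at h1
    rw [h1]; ring
  · have h2 := sq_a G Ω (by omega) h
    have h3 : ∑ g : G, ((nf Ω g : ℤ) ^ 2 - 3 * nf Ω g + nu Ω g) ^ 2 = 4 * ∑ g, v g ^ 2 := by
      rw [Finset.mul_sum]
      exact Finset.sum_congr rfl fun g _ => by rw [hv g]; ring
    rw [h3] at h2
    linarith
  · have h4 := hv 1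
    rw [nf_one G Ω, nu_one G Ω] at h4
    have h5 : (5 : ℤ) ≤ Nat.card Ω := by exact_mod_cast hk
    push_cast at h4
    nlinarith

/-- `(n-2, 1, 1)` -/
theorem irr_b (hk : 4 ≤ Nat.card Ω) (h : IsMultiplyPretransitive G Ω 4) :
    IsIrrCharacter G (fun g => ((nf Ω g : ℂ) ^ 2 - 3 * nf Ω g + 2 - nu Ω g) / 2) := by
  have hgen : IsGeneralizedCharacter G
      (fun g => ((nf Ω g : ℂ) ^ 2 - 3 * nf Ω g + 2 - nu Ω g) / 2) := by
    refine ⟨_, _, isCharacter_add (Cfsg.Agent.PermChar.SymAlt.isCharacter_altSq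
      (isCharacter_nf G Ω)) isCharacter_one, isCharacter_nf G Ω, ?_⟩
    funext g
    simp only [Pi.sub_apply, Pi.add_apply, Pi.one_apply]
    rw [nf_mul_self]
    push_cast
    ring
  have hint : ∀ g : G, ∃ z : ℤ, (nf Ω g : ℤ) ^ 2 - 3 * nf Ω g + 2 - nu Ω g = 2 * z := by
    intro g
    obtain ⟨k, hk⟩ := even_nu (Ω := Ω) g
    obtain ⟨l, hl⟩ := Int.even_mul_succ_self (nf Ω g)
    exact ⟨l - 2 * nf Ω g + 1 - k, by rw [hk]; push_cast; linear_combination hl⟩
  choose v hv using hint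
  refine isIrr_of_int G hgen v ?_ ?_ ?_
  · intro g
    have h1 : (((nf Ω g : ℤ) ^ 2 - 3 * nf Ω g + 2 - nu Ω g : ℤ) : ℂ) = ((2 * v g : ℤ) : ℂ) := by
      rw [hv g]
    push_cast at h1
    rw [h1]; ring
  · have h2 := sq_b G Ω (by omega) h
    have h3 : ∑ g : G, ((nf Ω g : ℤ) ^ 2 - 3 * nf Ω g + 2 - nu Ω g) ^ 2 = 4 * ∑ g, v g ^ 2 := by
      rw [Finset.mul_sum]
      exact Finset.sum_congr rfl fun g _ => by rw [hv g]; ring
    rw [h3] at h2
    linarith
  · have h4 := hv 1
    rw [nf_one G Ω, nu_one G Ω] at h4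
    have h5 : (4 : ℤ) ≤ Nat.card Ω := by exact_mod_cast hk
    push_cast at h4
    nlinarith

end chars

/-! ### Elements with prescribed numbers of fixed points -/

/-- existence of a permutation with given order bound, sign, `f`, `u` -/
def DD (α : Type) [Fintype α] [DecidableEq α] (k : ℕ) (s : ℤˣ) (f u : ℕ) : Prop :=
  ∃ σ : Equiv.Perm α, σ ^ k = 1 ∧ Equiv.Perm.sign σ = s ∧
    Nat.card {a // σ a = a} = f ∧ Nat.card {a // σ a ≠ a ∧ σ (σ a) = a} = u

theorem DD.congr {α β : Type} [Fintype α] [DecidableEq α] [Fintype β] [DecidableEq β] (e : α ≃ β)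
    {k : ℕ} {s : ℤˣ} {f u : ℕ} (h : DD α k s f u) : DD β k s f u := by
  obtain ⟨σ, h1, h2, h3, h4⟩ := h
  refine ⟨e.permCongr σ, ?_, ?_, ?_, ?_⟩
  · have : e.permCongr σ ^ k = e.permCongr (σ ^ k) := (map_pow e.permCongrHom σ k).symm
    rw [this, h1]
    exact map_one e.permCongrHom
  · rw [Equiv.Perm.sign_permCongr, h2]
  · rw [← h3]
    apply Nat.card_congr
    refine (Equiv.subtypeEquiv e fun a => ?_).symm
    simp
  · rw [← h4]
    apply Nat.card_congr
    refine (Equiv.subtypeEquiv e fun a => ?_).symm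
    simp

theorem DD.add {α β : Type} [Fintype α] [DecidableEq α] [Fintype β] [DecidableEq β]
    {k : ℕ} {s s' : ℤˣ} {f u f' u' : ℕ} (h : DD α k s f u) (h' : DD β k s' f' u') :
    DD (α ⊕ β) k (s * s') (f + f') (u + u') := by
  obtain ⟨σ, h1, h2, h3, h4⟩ := h
  obtain ⟨τ, g1, g2, g3, g4⟩ := h'
  refine ⟨Equiv.Perm.sumCongr σ τ, ?_, ?_, ?_, ?_⟩
  · have := map_pow (Equiv.Perm.sumCongrHom α β) (σ, τ) k
    simp only [Equiv.Perm.sumCongrHom_apply] at this
    rw [← this, Prod.pow_mk, h1, g1]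
    simp
  · rw [Equiv.Perm.sign_sumCongr, h2, g2]
  · rw [← h3, ← g3, ← Nat.card_sum]
    apply Nat.card_congr
    refine (Equiv.subtypeSum).trans (Equiv.sumCongr (Equiv.subtypeEquiv (Equiv.refl _) ?_)
      (Equiv.subtypeEquiv (Equiv.refl _) ?_))
    · intro a; simp
    · intro a; simp
  · rw [← h4, ← g4, ← Nat.card_sum]
    apply Nat.card_congr
    refine (Equiv.subtypeSum).trans (Equiv.sumCongr (Equiv.subtypeEquiv (Equiv.refl _) ?_)
      (Equiv.subtypeEquiv (Equiv.refl _) ?_))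
    · intro a; simp
    · intro a; simp

/-- the version on `Fin n` -/
def D (n k : ℕ) (s : ℤˣ) (f u : ℕ) : Prop := DD (Fin n) k s f u

theorem D.add {n m k : ℕ} {s s' : ℤˣ} {f u f' u' : ℕ} (h : D n k s f u) (h' : D m k s' f' u') :
    D (n + m) k (s * s') (f + f') (u + u') :=
  (DD.add h h').congr finSumFinEquiv

theorem D_zero (k : ℕ) : D 0 k 1 0 0 := by
  refine ⟨1, one_pow _, by simp, ?_, ?_⟩ <;> simp

theorem D_rep {n k u : ℕ} {s : ℤˣ} (h : D n k s 0 u) (j : ℕ) : D (n * j) k (s ^ j) 0 (u * j) := by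
  induction j with
  | zero => simpa using D_zero k
  | succ j ih =>
    have := D.add ih h
    rwa [← pow_succ, ← Nat.mul_succ, ← Nat.mul_succ] at this

theorem D_one (k : ℕ) : D 1 k 1 1 0 := by
  refine ⟨1, one_pow _, by simp, ?_, ?_⟩ <;> simp

theorem D_two : D 2 8 (-1) 0 2 := by
  refine ⟨finRotate 2, ?_, ?_, ?_, ?_⟩
  · decide
  · decide
  · rw [Nat.card_eq_fintype_card]; decide
  · rw [Nat.card_eq_fintype_card]; decide

theorem D_four : D 4 8 (-1) 0 0 := by
  refine ⟨finRotate 4, ?_, ?_, ?_, ?_⟩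
  · decide
  · decide
  · rw [Nat.card_eq_fintype_card]; decide
  · rw [Nat.card_eq_fintype_card]; decide

theorem D_eight : D 8 8 (-1) 0 0 := by
  refine ⟨finRotate 8, ?_, ?_, ?_, ?_⟩
  · decide
  · rw [sign_finRotate]; decide
  · rw [Nat.card_eq_fintype_card]; decide
  · rw [Nat.card_eq_fintype_card]; decide

theorem D_three : D 3 3 1 0 0 := by
  refine ⟨finRotate 3, ?_, ?_, ?_, ?_⟩
  · decide
  · decide
  · rw [Nat.card_eq_fintype_card]; decide
  · rw [Nat.card_eq_fintype_card]; decide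

theorem D_rep8 (j : ℕ) : D (8 * j) 8 1 0 0 := by
  have h := D_rep (D.add D_four D_four) j
  simpa using h

theorem exists_two (n : ℕ) (hn : 7 ≤ n) : D n 8 1 1 0 ∨ D n 8 1 1 2 ∨ D n 8 1 1 4 ∨ D n 8 1 0 0 ∨
    D n 8 1 0 2 := by
  have h8 := D_rep8 (n / 8)
  have h8' := D_rep8 (n / 8 - 1)
  have hc : n % 8 = 0 ∨ n % 8 = 1 ∨ n % 8 = 2 ∨ n % 8 = 3 ∨ n % 8 = 4 ∨ n % 8 = 5 ∨ n % 8 = 6 ∨
    n % 8 = 7 := by omega
  rcases hc with h | h | h | h | h | h | h | h
  · right; right; right; left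
    have : n = 8 * (n / 8) := by omega
    rw [this]; exact h8
  · left
    have : n = 1 + 8 * (n / 8) := by omega
    rw [this]; simpa using (D_one 8).add h8
  · right; right; right; right
    have : n = 2 + 8 + 8 * (n / 8 - 1) := by omega
    rw [this]; simpa using (D_two.add D_eight).add h8'
  · right; left
    have : n = 1 + 2 + 8 + 8 * (n / 8 - 1) := by omega
    rw [this]; simpa using (((D_one 8).add D_two).add D_eight).add h8'
  · right; right; right; left
    have : n = 4 + 8 + 8 * (n / 8 - 1) := by omega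
    rw [this]; simpa using (D_four.add D_eight).add h8'
  · right; right; left
    have : n = 1 + 2 + 2 + 8 * (n / 8) := by omega
    rw [this]; simpa using (((D_one 8).add D_two).add D_two).add h8
  · right; right; right; right
    have : n = 2 + 4 + 8 * (n / 8) := by omega
    rw [this]; simpa using (D_two.add D_four).add h8
  · right; left
    have : n = 1 + 2 + 4 + 8 * (n / 8) := by omega
    rw [this]; simpa using (((D_one 8).add D_two).add D_four).add h8

theorem exists_three (n : ℕ) : D n 3 1 0 0 ∨ D n 3 1 1 0 ∨ D n 3 1 2 0 := by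
  have h3 := D_rep D_three (n / 3)
  simp only [one_pow, zero_mul] at h3
  have hc : n % 3 = 0 ∨ n % 3 = 1 ∨ n % 3 = 2 := by omega
  rcases hc with h | h | h
  · left
    have : n = 3 * (n / 3) := by omega
    rw [this]; exact h3
  · right; left
    have : n = 1 + 3 * (n / 3) := by omega
    rw [this]; simpa using (D_one 3).add h3
  · right; right
    have : n = 1 + 1 + 3 * (n / 3) := by omega
    rw [this]; simpa using ((D_one 3).add (D_one 3)).add h3

/-! ### The statement for alternating groups -/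

section main

variable {n : ℕ}

/-- the values of the three characters in terms of `f`, `u` -/
theorem main_of (F : ℂ → ℂ → ℂ)
    (hS : IsIrrCharacter (Equiv.Perm (Fin n)) (fun g => F (nf (Fin n) g) (nu (Fin n) g)))
    (hA : IsIrrCharacter (alternatingGroup (Fin n)) (fun g => F (nf (Fin n) g) (nu (Fin n) g)))
    (P : alternatingGroup (Fin n) → Prop)
    (h0 : ∃ x : alternatingGroup (Fin n), P x ∧ F (nf (Fin n) x) (nu (Fin n) x) = 0) :
    ∃ χ : Cfsg.IrrCharacter (alternatingGroup (Fin n)),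
      (∃ x : alternatingGroup (Fin n), P x ∧ (χ : alternatingGroup (Fin n) → ℂ) x = 0) ∧
      ∃ ψ : Cfsg.IrrCharacter (Equiv.Perm (Fin n)), ∀ x : alternatingGroup (Fin n),
        (ψ : Equiv.Perm (Fin n) → ℂ) x = (χ : alternatingGroup (Fin n) → ℂ) x := by
  refine ⟨⟨_, hA⟩, h0, ⟨_, hS⟩, fun x => rfl⟩

theorem trans_alt (hn : 7 ≤ n) : IsMultiplyPretransitive (alternatingGroup (Fin n)) (Fin n) 4 := by
  have := alternatingGroup.isMultiplyPretransitive (Fin n)
  rw [Nat.card_eq_fintype_card, Fintype.card_fin] at this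
  exact isMultiplyPretransitive_of_le (n := n - 2) (by omega) (by
    rw [Nat.card_eq_fintype_card, Fintype.card_fin]; omega)

theorem exists_alt (P : alternatingGroup (Fin n) → Prop) (k f u : ℕ)
    (hP : ∀ x : alternatingGroup (Fin n), (x : Equiv.Perm (Fin n)) ^ k = 1 →
      Nat.card {a // (x : Equiv.Perm (Fin n)) a = a} = f → P x)
    (h : D n k 1 f u) (F : ℂ → ℂ → ℂ) (hF : F f u = 0) :
    ∃ x : alternatingGroup (Fin n), P x ∧ F (nf (Fin n) x) (nu (Fin n) x) = 0 := by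
  obtain ⟨σ, h1, h2, h3, h4⟩ := h
  refine ⟨⟨σ, h2⟩, hP _ h1 h3, ?_⟩
  have h5 : nf (Fin n) (⟨σ, h2⟩ : alternatingGroup (Fin n)) = f := h3
  have h6 : nu (Fin n) (⟨σ, h2⟩ : alternatingGroup (Fin n)) = u := h4
  rw [h5, h6, hF]

theorem main_P (hn : 7 ≤ n) (P : alternatingGroup (Fin n) → Prop) (k f u : ℕ)
    (hP : ∀ x : alternatingGroup (Fin n), (x : Equiv.Perm (Fin n)) ^ k = 1 →
      Nat.card {a // (x : Equiv.Perm (Fin n)) a = a} = f → P x)
    (h : D n k 1 f u) (hfu : f = 1 ∨ (f = 0 ∧ u = 0) ∨ (f = 0 ∧ u = 2) ∨ (f = 2 ∧ u = 0)) :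
    ∃ χ : Cfsg.IrrCharacter (alternatingGroup (Fin n)),
      (∃ x : alternatingGroup (Fin n), P x ∧ (χ : alternatingGroup (Fin n) → ℂ) x = 0) ∧
      ∃ ψ : Cfsg.IrrCharacter (Equiv.Perm (Fin n)), ∀ x : alternatingGroup (Fin n),
        (ψ : Equiv.Perm (Fin n) → ℂ) x = (χ : alternatingGroup (Fin n) → ℂ) x := by
  have hc : Nat.card (Fin n) = n := by rw [Nat.card_eq_fintype_card, Fintype.card_fin]
  have hS4 : IsMultiplyPretransitive (Equiv.Perm (Fin n)) (Fin n) 4 :=
    Equiv.Perm.isMultiplyPretransitive (Fin n) 4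
  have hA4 := trans_alt hn
  rcases hfu with rfl | ⟨rfl, rfl⟩ | ⟨rfl, rfl⟩ | ⟨rfl, rfl⟩
  · let F : ℂ → ℂ → ℂ := fun a b => a - 1
    exact main_of F (irr_one _ _ (by omega) hS4) (irr_one _ _ (by omega) hA4) P
      (exists_alt P k 1 u hP h F (by simp [F]))
  · let F : ℂ → ℂ → ℂ := fun a b => (a ^ 2 - 3 * a + b) / 2
    exact main_of F (irr_a _ _ (by omega) hS4) (irr_a _ _ (by omega) hA4) P
      (exists_alt P k 0 0 hP h F (by simp [F]))
  · let F : ℂ → ℂ → ℂ := fun a b => (a ^ 2 - 3 * a + 2 - b) / 2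
    exact main_of F (irr_b _ _ (by omega) hS4) (irr_b _ _ (by omega) hA4) P
      (exists_alt P k 0 2 hP h F (by simp [F]))
  · let F : ℂ → ℂ → ℂ := fun a b => (a ^ 2 - 3 * a + 2 - b) / 2
    exact main_of F (irr_b _ _ (by omega) hS4) (irr_b _ _ (by omega) hA4) P
      (exists_alt P k 2 0 hP h F (by simp only [F]; norm_num))

theorem main (n : ℕ) (hn : 7 ≤ n) :
    (∃ χ : Cfsg.IrrCharacter (alternatingGroup (Fin n)),
      (∃ x : alternatingGroup (Fin n), (∃ j : ℕ, orderOf x = 2 ^ j) ∧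
        (χ : alternatingGroup (Fin n) → ℂ) x = 0) ∧
      ∃ ψ : Cfsg.IrrCharacter (Equiv.Perm (Fin n)), ∀ x : alternatingGroup (Fin n),
        (ψ : Equiv.Perm (Fin n) → ℂ) x = (χ : alternatingGroup (Fin n) → ℂ) x) ∧
    (∃ χ : Cfsg.IrrCharacter (alternatingGroup (Fin n)),
      (∃ y : alternatingGroup (Fin n), orderOf y = 3 ∧
        (χ : alternatingGroup (Fin n) → ℂ) y = 0) ∧
      ∃ ψ : Cfsg.IrrCharacter (Equiv.Perm (Fin n)), ∀ x : alternatingGroup (Fin n),
        (ψ : Equiv.Perm (Fin n) → ℂ) x = (χ : alternatingGroup (Fin n) → ℂ) x) := by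
  constructor
  · have hP : ∀ (f : ℕ) (x : alternatingGroup (Fin n)), (x : Equiv.Perm (Fin n)) ^ 8 = 1 →
        Nat.card {a // (x : Equiv.Perm (Fin n)) a = a} = f → ∃ j : ℕ, orderOf x = 2 ^ j := by
      intro f x hx _
      have h1 : orderOf x ∣ 2 ^ 3 := by
        apply orderOf_dvd_of_pow_eq_one
        apply Subtype.ext
        exact hx
      obtain ⟨j, -, hj⟩ := (Nat.dvd_prime_pow Nat.prime_two).1 h1
      exact ⟨j, hj⟩
    rcases exists_two n hn with h | h | h | h | h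
    · exact main_P hn _ 8 1 0 (hP 1) h (by simp)
    · exact main_P hn _ 8 1 2 (hP 1) h (by simp)
    · exact main_P hn _ 8 1 4 (hP 1) h (by simp)
    · exact main_P hn _ 8 0 0 (hP 0) h (by simp)
    · exact main_P hn _ 8 0 2 (hP 0) h (by simp)
  · have hP : ∀ (f : ℕ), f < 7 → ∀ (x : alternatingGroup (Fin n)),
        (x : Equiv.Perm (Fin n)) ^ 3 = 1 →
        Nat.card {a // (x : Equiv.Perm (Fin n)) a = a} = f → orderOf x = 3 := by
      intro f hf x hx hc
      have : Fact (Nat.Prime 3) := ⟨Nat.prime_three⟩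
      apply orderOf_eq_prime
      · apply Subtype.ext
        exact hx
      · rintro rfl
        have h1 : Nat.card {a : Fin n // ((1 : alternatingGroup (Fin n)) : Equiv.Perm (Fin n)) a = a}
            = n := by
          have h2 := Nat.card_congr (Equiv.subtypeUnivEquiv
            (p := fun a : Fin n => ((1 : alternatingGroup (Fin n)) : Equiv.Perm (Fin n)) a = a)
            (fun a => rfl))
          rw [h2, Nat.card_eq_fintype_card, Fintype.card_fin]
        omega
    rcases exists_three n with h | h | h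
    · exact main_P hn _ 3 0 0 (hP 0 (by norm_num)) h (by simp)
    · exact main_P hn _ 3 1 0 (hP 1 (by norm_num)) h (by simp)
    · exact main_P hn _ 3 2 0 (hP 2 (by norm_num)) h (by simp)

end main

end Cfsg.Agent.H621.AltChar
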